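import Groth.Prelude.Def_FrobAlg
import Groth.Agent.PBasisLib.Root
import Mathlib.RingTheory.Etale.Basic
import Mathlib.RingTheory.Smooth.Basic
import Mathlib.RingTheory.Ideal.IdempotentFG

/-!
# The relative Frobenius and étale algebras
-/

set_option autoImplicit false
set_option linter.style.haveILetI false
universe u v

open scoped TensorProduct

namespace FrobEtaleLib

variable (p : ℕ) [Fact p.Prime] (A : Type u) [CommRing A] [CharP A p]
  (B : Type v) [CommRing B] [Algebra A B] [CharP B p]

theorem relFrob_tmul (b : B) (a : FrobAlg.Twist p A) :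
    FrobAlg.relFrob p A B (b ⊗ₜ a) = b ^ p * algebraMap A B ((FrobAlg.toTwist p A).symm a) := by
  change (FrobAlg.toTarget p A B).symm (FrobAlg.frobHom p A B b * FrobAlg.inclHom p A B a) = _
  rfl

theorem tmul_one_pow (a : A) :
    (algebraMap A B a) ⊗ₜ[A] (1 : FrobAlg.Twist p A) = (1 : B) ⊗ₜ[A] FrobAlg.toTwist p A (a ^ p) := by
  rw [Algebra.algebraMap_eq_smul_one, TensorProduct.smul_tmul, ← Algebra.algebraMap_eq_smul_one,
    FrobAlg.algebraMap_twist]

/-- The kernel of the relative Frobenius is killed by `p`-th powers. -/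
theorem pow_eq_zero (x : FrobAlg.BaseChange p A B) (hx : FrobAlg.relFrob p A B x = 0) : x ^ p = 0 := by
  rcases subsingleton_or_nontrivial (FrobAlg.BaseChange p A B) with h | h
  · exact Subsingleton.elim _ _
  have hp0 : (p : FrobAlg.BaseChange p A B) = 0 := by
    rw [← map_natCast (algebraMap A (FrobAlg.BaseChange p A B)) p, CharP.cast_eq_zero, map_zero]
  haveI : CharP (FrobAlg.BaseChange p A B) p := (CharP.charP_iff_prime_eq_zero Fact.out).mpr hp0
  suffices h : ∀ z : FrobAlg.BaseChange p A B,
      z ^ p = (FrobAlg.relFrob p A B z) ⊗ₜ[A] (1 : FrobAlg.Twist p A) by rw [h, hx, TensorProduct.zero_tmul]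
  intro z
  induction z using TensorProduct.induction_on with
  | zero => rw [map_zero, zero_pow (Fact.out : p.Prime).pos.ne', TensorProduct.zero_tmul]
  | tmul b a =>
    rw [relFrob_tmul, Algebra.TensorProduct.tmul_pow]
    symm
    calc (b ^ p * algebraMap A B ((FrobAlg.toTwist p A).symm a)) ⊗ₜ[A] (1 : FrobAlg.Twist p A)
        = ((b ^ p) ⊗ₜ[A] (1 : FrobAlg.Twist p A)) *
          (algebraMap A B ((FrobAlg.toTwist p A).symm a) ⊗ₜ[A] (1 : FrobAlg.Twist p A)) := by
          rw [Algebra.TensorProduct.tmul_mul_tmul, one_mul]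
      _ = (b ^ p) ⊗ₜ[A] (a ^ p) := by
          rw [tmul_one_pow, Algebra.TensorProduct.tmul_mul_tmul, mul_one, one_mul, map_pow,
            RingEquiv.apply_symm_apply]
  | add z w hz hw => rw [add_pow_char, map_add, TensorProduct.add_tmul, hz, hw]

theorem etale_of_comp {R S T : Type*} [CommRing R] [CommRing S] [CommRing T] (f : R →+* S) (g : S →+* T)
    (hf : f.Etale) (hgf : (g.comp f).Etale) : g.Etale := by
  algebraize [f, g, g.comp f]
  haveI : Algebra.FormallyEtale S T := Algebra.FormallyEtale.of_restrictScalars (R := R)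
  haveI : Algebra.FinitePresentation S T := Algebra.FinitePresentation.of_restrict_scalars_finitePresentation R S T
  exact ⟨inferInstance, inferInstance⟩

theorem bijective_of_etale [hAB : Algebra.Etale A B] : Function.Bijective (FrobAlg.relFrob p A B) := by
  let B' := FrobAlg.BaseChange p A B
  haveI : Algebra.Etale (FrobAlg.Twist p A) B' :=
    Algebra.Etale.of_equiv (Algebra.TensorProduct.commRight A (FrobAlg.Twist p A) B)
  have hψ : (FrobAlg.relFrob p A B).Etale := by
    refine etale_of_comp (algebraMap (FrobAlg.Twist p A) B') _ (RingHom.etale_algebraMap.mpr ‹_›) ?_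
    have he : (FrobAlg.relFrob p A B).comp (algebraMap (FrobAlg.Twist p A) B') =
        (algebraMap A B).comp ((FrobAlg.toTwist p A).symm : FrobAlg.Twist p A →+* A) := RingHom.ext fun a => by
      change FrobAlg.relFrob p A B ((1 : B) ⊗ₜ a) = _
      rw [relFrob_tmul, one_pow, one_mul]
      rfl
    rw [he]
    exact (RingHom.etale_algebraMap.mpr hAB : (algebraMap A B).Etale)
  letI algB : Algebra B' B := (FrobAlg.relFrob p A B).toAlgebra
  haveI : Algebra.Etale B' B := hψ
  haveI : Algebra.FormallyEtale B' B := inferInstance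
  haveI : Algebra.FinitePresentation B' B := inferInstance
  haveI : CharP (ULift.{max u v} B) p :=
    charP_of_injective_ringHom (f := (ULift.ringEquiv.symm : B ≃+* ULift.{max u v} B).toRingHom) (RingEquiv.injective _) p
  haveI : Algebra.FiniteType B' (ULift.{max u v} B) :=
    Algebra.FiniteType.equiv (inferInstance : Algebra.FiniteType B' B) ULift.algEquiv.symm
  haveI : Algebra.FormallyUnramified B' (ULift.{max u v} B) :=
    Algebra.FormallyUnramified.of_equiv (ULift.algEquiv (R := B') (A := B)).symm
  have hsurj' : Function.Surjective (algebraMap B' (ULift.{max u v} B)) :=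
    Groth.Agent.PBasisLib.surjective_of_formallyUnramified p 1 fun b =>
      ⟨b.down ⊗ₜ 1, by
        rw [pow_one]
        exact ULift.ext _ _ ((relFrob_tmul p A B b.down 1).trans (by rw [map_one, map_one, mul_one]; rfl))⟩
  have hsurj : Function.Surjective (algebraMap B' B) := fun b =>
    let ⟨z, hz⟩ := hsurj' ⟨b⟩
    ⟨z, congrArg ULift.down hz⟩
  refine ⟨(RingHom.injective_iff_ker_eq_bot _).mpr ?_, hsurj⟩
  have hfg : (RingHom.ker (algebraMap B' B)).FG :=
    Algebra.FinitePresentation.ker_fG_of_surjective (Algebra.ofId B' B) hsurj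
  obtain ⟨e, he, hker⟩ := (Ideal.isIdempotentElem_iff_of_fg _ hfg).mp
    ((Algebra.FormallyEtale.iff_of_surjective hsurj).mp inferInstance)
  have he0 : e = 0 := by
    have hmem : FrobAlg.relFrob p A B e = 0 := by
      have : e ∈ RingHom.ker (algebraMap B' B) := by rw [hker]; exact Submodule.mem_span_singleton_self e
      exact this
    rw [← he.pow_succ_eq (p - 1), Nat.sub_add_cancel (Fact.out : p.Prime).one_le]
    exact pow_eq_zero p A B e hmem
  exact hker.trans (by rw [he0]; simp)

theorem formallySmooth_of_bijective (h : Function.Bijective (FrobAlg.relFrob p A B)) :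
    Algebra.FormallySmooth A B := by
  refine Algebra.FormallySmooth.of_comp_surjective fun R _ _ I hI f => ?_
  rcases subsingleton_or_nontrivial R with hR | hR
  · haveI : Subsingleton (R ⧸ I) := (Ideal.Quotient.mk_surjective).subsingleton
    let z : B →+* R :=
      { toFun := fun _ => 0
        map_one' := Subsingleton.elim _ _
        map_mul' := fun _ _ => Subsingleton.elim _ _
        map_zero' := rfl
        map_add' := fun _ _ => Subsingleton.elim _ _ }
    exact ⟨⟨z, fun _ => Subsingleton.elim _ _⟩, AlgHom.ext fun _ => Subsingleton.elim _ _⟩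
  have hp0 : (p : R) = 0 := by
    rw [← map_natCast (algebraMap A R) p, CharP.cast_eq_zero, map_zero]
  haveI : CharP R p := (CharP.charP_iff_prime_eq_zero Fact.out).mpr hp0
  let φ : R ⧸ I →+* R := Ideal.Quotient.lift I (frobenius R p) fun x hx => by
    obtain ⟨m, hm⟩ : ∃ m, p = m + 2 := ⟨p - 2, by have := (Fact.out : p.Prime).two_le; omega⟩
    have hx2 : x ^ 2 ∈ I ^ 2 := Ideal.pow_mem_pow hx 2
    rw [hI] at hx2
    rw [frobenius_def, hm, pow_add, (Submodule.mem_bot _).mp hx2, mul_zero]
  letI : Algebra A (FrobAlg.Target p A R) := inferInstance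
  let g₁ : B →ₐ[A] FrobAlg.Target p A R :=
    { toRingHom := (FrobAlg.toTarget p A R : R →+* FrobAlg.Target p A R).comp (φ.comp f.toRingHom)
      commutes' := fun a => by
        change FrobAlg.toTarget p A R (φ (f (algebraMap A B a))) = _
        rw [f.commutes]
        rfl }
  let g : FrobAlg.BaseChange p A B →+* R := ((FrobAlg.toTarget p A R).symm : FrobAlg.Target p A R →+* R).comp
    (Algebra.TensorProduct.lift g₁ (FrobAlg.inclHom p A R) fun _ _ => Commute.all _ _).toRingHom
  let e := RingEquiv.ofBijective (FrobAlg.relFrob p A B) h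
  have hg : ∀ z, Ideal.Quotient.mk I (g z) = f (FrobAlg.relFrob p A B z) := fun z => by
    induction z using TensorProduct.induction_on with
    | zero => simp
    | tmul b a =>
      rw [relFrob_tmul]
      obtain ⟨y, hy⟩ := Ideal.Quotient.mk_surjective (f b)
      have h1 : g (b ⊗ₜ a) = φ (f b) * algebraMap A R ((FrobAlg.toTwist p A).symm a) := rfl
      have h2 : φ (f b) = y ^ p := by rw [← hy]; rfl
      rw [h1, h2, map_mul, map_pow, hy, map_mul, map_pow, AlgHom.commutes]
      rfl
    | add z w hz hw => rw [map_add, map_add, map_add, map_add, hz, hw]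
  refine ⟨{ toRingHom := g.comp e.symm.toRingHom, commutes' := fun a => ?_ }, AlgHom.ext fun b => ?_⟩
  · change g (e.symm (algebraMap A B a)) = _
    have he : e.symm (algebraMap A B a) = (1 : B) ⊗ₜ FrobAlg.toTwist p A a := by
      apply e.injective
      rw [e.apply_symm_apply]
      exact ((relFrob_tmul p A B 1 _).trans (by rw [one_pow, one_mul, RingEquiv.symm_apply_apply])).symm
    rw [he]
    change φ (f 1) * algebraMap A R a = _
    rw [map_one, map_one, one_mul]
  · exact (hg (e.symm b)).trans (congrArg f (e.apply_symm_apply b))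

theorem formallyUnramified_of_surjective (h : Function.Surjective (FrobAlg.relFrob p A B)) :
    Algebra.FormallyUnramified A B := by
  refine ⟨⟨fun x y => ?_⟩⟩
  have hD : ∀ b : B, KaehlerDifferential.D A B b = 0 := fun b => by
    obtain ⟨z, rfl⟩ := h b
    induction z using TensorProduct.induction_on with
    | zero => simp
    | tmul c a =>
      rw [relFrob_tmul, Derivation.leibniz, Derivation.map_algebraMap, smul_zero, zero_add,
        Derivation.leibniz_pow, ← Nat.cast_smul_eq_nsmul B p, CharP.cast_eq_zero, zero_smul, smul_zero]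
    | add z w hz hw => rw [map_add, map_add, hz, hw, add_zero]
  have htop : (⊤ : Submodule B (Ω[B⁄A])) = ⊥ := by
    rw [← KaehlerDifferential.span_range_derivation, Submodule.span_eq_bot]
    rintro _ ⟨b, rfl⟩
    exact hD b
  rw [(Submodule.mem_bot B).mp (htop ▸ Submodule.mem_top : x ∈ (⊥ : Submodule B (Ω[B⁄A]))),
    (Submodule.mem_bot B).mp (htop ▸ Submodule.mem_top : y ∈ (⊥ : Submodule B (Ω[B⁄A])))]

end FrobEtaleLib
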