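import Groth.Agent.FrobEtaleLib.Basic
import Mathlib.RingTheory.MvPolynomial.Expand
import Mathlib.RingTheory.MvPolynomial.Basic
import Mathlib.LinearAlgebra.Basis.Defs

/-!
# The relative Frobenius of an algebra étale over a polynomial ring
-/

set_option autoImplicit false
set_option linter.style.haveILetI false
universe u v

open scoped TensorProduct
open MvPolynomial

namespace FrobEtaleLib

set_option maxHeartbeats 400000

variable (p : ℕ) [Fact p.Prime] {A : Type u} [CommRing A] {n : ℕ}

/-- Division with remainder of exponent vectors. -/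
noncomputable def splitExp : ((Fin n → Fin p) × (Fin n →₀ ℕ)) ≃ (Fin n →₀ ℕ) where
  toFun em := Finsupp.equivFunOnFinite.symm fun i => p * em.2 i + (em.1 i : ℕ)
  invFun m := (fun i => ⟨m i % p, Nat.mod_lt _ (Fact.out : p.Prime).pos⟩,
    Finsupp.equivFunOnFinite.symm fun i => m i / p)
  left_inv em := by
    refine Prod.ext (funext fun i => Fin.ext ?_) (Finsupp.ext fun i => ?_)
    · simp [Nat.mod_eq_of_lt (em.1 i).2]
    · simp [Nat.mul_add_div (Fact.out : p.Prime).pos, Nat.div_eq_of_lt (em.1 i).2]
  right_inv m := Finsupp.ext fun i => by simp [Nat.div_add_mod]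

/-- The reduced monomials. -/
noncomputable def mono (e : Fin n → Fin p) : MvPolynomial (Fin n) A :=
  monomial (Finsupp.equivFunOnFinite.symm fun i => (e i : ℕ)) 1

/-- Assembly of coefficients along reduced monomials. -/
noncomputable def assemble : ((Fin n → Fin p) → MvPolynomial (Fin n) A) →+ MvPolynomial (Fin n) A where
  toFun c := ∑ e, expand p (c e) * mono p e
  map_zero' := by simp
  map_add' c d := by simp [add_mul, Finset.sum_add_distrib]

theorem coeff_term (t : MvPolynomial (Fin n) A) (e e' : Fin n → Fin p) (m : Fin n →₀ ℕ) :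
    coeff (splitExp p (e', m)) (expand p t * mono p e) = if e = e' then coeff m t else 0 := by
  classical
  induction t using MvPolynomial.induction_on' with
  | monomial s a =>
    rw [expand_monomial, mono, monomial_mul, mul_one, coeff_monomial, coeff_monomial]
    have hiff : p • s + Finsupp.equivFunOnFinite.symm (fun i => (e i : ℕ)) = splitExp p (e', m) ↔
        e = e' ∧ s = m := by
      have h1 : p • s + Finsupp.equivFunOnFinite.symm (fun i => (e i : ℕ)) = splitExp p (e, s) :=
        Finsupp.ext fun i => by simp [splitExp]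
      rw [h1, (splitExp p).injective.eq_iff, Prod.mk.injEq]
    by_cases he : e = e'
    · by_cases hs : s = m
      · rw [if_pos (hiff.mpr ⟨he, hs⟩), if_pos he, if_pos hs]
      · rw [if_neg (fun h => hs (hiff.mp h).2), if_pos he, if_neg hs]
    · rw [if_neg (fun h => he (hiff.mp h).1), if_neg he]
  | add a b ha hb =>
    rw [map_add, add_mul, coeff_add, ha, hb, coeff_add]
    split_ifs <;> simp

theorem coeff_assemble (c : (Fin n → Fin p) → MvPolynomial (Fin n) A) (e : Fin n → Fin p) (m : Fin n →₀ ℕ) :
    coeff (splitExp p (e, m)) (assemble p c) = coeff m (c e) := by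
  classical
  change coeff _ (∑ e', expand p (c e') * mono p e') = _
  rw [coeff_sum]
  simp [coeff_term]

theorem assemble_single (e : Fin n → Fin p) (t : MvPolynomial (Fin n) A) :
    assemble p (Pi.single e t) = expand p t * mono p e := by
  classical
  change ∑ e', expand p ((Pi.single e t : (Fin n → Fin p) → MvPolynomial (Fin n) A) e') * mono p e' = _
  rw [Finset.sum_eq_single e (fun b _ hb => by rw [Pi.single_eq_of_ne hb, map_zero, zero_mul]) (by simp),
    Pi.single_eq_same]

theorem bijective_assemble :
    Function.Bijective (assemble (A := A) p : ((Fin n → Fin p) → MvPolynomial (Fin n) A) → _) := by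
  refine ⟨fun c d h => funext fun e => MvPolynomial.ext _ _ fun m => ?_, fun q => ?_⟩
  · rw [← coeff_assemble p c e m, h, coeff_assemble]
  · induction q using MvPolynomial.induction_on' with
    | monomial s a =>
      classical
      refine ⟨Pi.single ((splitExp p).symm s).1 (monomial ((splitExp p).symm s).2 a), MvPolynomial.ext _ _ fun m => ?_⟩
      obtain ⟨⟨e, m⟩, rfl⟩ := (splitExp p).surjective m
      obtain ⟨⟨e', m'⟩, rfl⟩ := (splitExp p).surjective s
      rw [coeff_assemble, Equiv.symm_apply_apply, coeff_monomial]
      by_cases he : e = e'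
      · subst he
        by_cases hm : m' = m
        · subst hm; simp
        · rw [Pi.single_eq_same, coeff_monomial, if_neg hm, if_neg (fun h => hm (congrArg Prod.snd ((splitExp p).injective h)))]
      · rw [Pi.single_eq_of_ne he, coeff_zero, if_neg (fun h => he (congrArg Prod.fst ((splitExp p).injective h)).symm)]
    | add a b ha hb =>
      obtain ⟨c, rfl⟩ := ha
      obtain ⟨d, rfl⟩ := hb
      exact ⟨c + d, map_add _ _ _⟩

variable [CharP A p] {B : Type v} [CommRing B] [Algebra A B] [CharP B p]

/-- The relative Frobenius of an algebra étale over a polynomial ring is free on the reduced monomials. -/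
theorem exists_basis_mono (g : MvPolynomial (Fin n) A →ₐ[A] B) (hg : g.toRingHom.Etale) :
    letI := (FrobAlg.relFrob p A B).toAlgebra
    ∃ b : Module.Basis (Fin n → Fin p) (FrobAlg.BaseChange p A B) B, ∀ e, b e = g (mono p e) := by
  classical
  letI := (FrobAlg.relFrob p A B).toAlgebra
  let P := MvPolynomial (Fin n) A
  letI algP : Algebra P B := g.toRingHom.toAlgebra
  haveI : Algebra.Etale P B := hg
  haveI : IsScalarTower A P B := IsScalarTower.of_algebraMap_eq fun a => (g.commutes a).symm
  let B' := FrobAlg.BaseChange p A B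
  let χ : P →+* B' := MvPolynomial.eval₂Hom
    ((Algebra.TensorProduct.includeRight : FrobAlg.Twist p A →ₐ[A] B').toRingHom.comp (FrobAlg.toTwist p A).toRingHom)
    (fun i => g (X i) ⊗ₜ[A] (1 : FrobAlg.Twist p A))
  have hχF : ∀ q : P, χ (MvPolynomial.map (frobenius A p) q) = g q ⊗ₜ[A] (1 : FrobAlg.Twist p A) := by
    have h : χ.comp (MvPolynomial.map (frobenius A p)) =
        (Algebra.TensorProduct.includeLeft : B →ₐ[A] B').toRingHom.comp g.toRingHom :=
      MvPolynomial.ringHom_ext (fun a => by
        change χ (MvPolynomial.map _ (C a)) = g (C a) ⊗ₜ[A] (1 : FrobAlg.Twist p A)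
        rw [MvPolynomial.map_C, ← MvPolynomial.algebraMap_eq, g.commutes, MvPolynomial.algebraMap_eq]
        change MvPolynomial.eval₂Hom _ _ (C (frobenius A p a)) = _
        rw [MvPolynomial.eval₂Hom_C]
        exact (tmul_one_pow p A B a).symm) fun i => by
        change χ (MvPolynomial.map _ (X i)) = _
        rw [MvPolynomial.map_X]
        exact MvPolynomial.eval₂Hom_X' _ _ i
    exact fun q => RingHom.congr_fun h q
  have hrel : ∀ q : P, FrobAlg.relFrob p A B (χ q) = g (expand p q) := by
    have h : (FrobAlg.relFrob p A B).comp χ = g.toRingHom.comp (expand p : P →ₐ[A] P).toRingHom :=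
      MvPolynomial.ringHom_ext (fun a => by
        change FrobAlg.relFrob p A B (χ (C a)) = g (expand p (C a))
        rw [expand_C, show χ (C a) = (1 : B) ⊗ₜ[A] FrobAlg.toTwist p A a from MvPolynomial.eval₂Hom_C _ _ a,
          relFrob_tmul, one_pow, one_mul, RingEquiv.symm_apply_apply, ← MvPolynomial.algebraMap_eq, g.commutes]) fun i => by
        change FrobAlg.relFrob p A B (χ (X i)) = g (expand p (X i))
        rw [expand_X, map_pow, show χ (X i) = g (X i) ⊗ₜ[A] (1 : FrobAlg.Twist p A) from MvPolynomial.eval₂Hom_X' _ _ i,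
          relFrob_tmul, map_one, map_one, mul_one]
    exact fun q => RingHom.congr_fun h q
  let as := AddEquiv.ofBijective (assemble p : ((Fin n → Fin p) → P) →+ P) (bijective_assemble p)
  have hsmul : ∀ (t q : P) (e : Fin n → Fin p), as.symm (expand p t * q) e = t * as.symm q e := by
    intro t q e
    obtain ⟨c, rfl⟩ := as.surjective q
    rw [as.symm_apply_apply, show expand p t * as c = as (fun e => t * c e) from ?_, as.symm_apply_apply]
    change _ * (∑ e', _) = ∑ e', _
    simp [Finset.mul_sum, mul_assoc]
  let E := (Fin n → Fin p)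
  let ω₂ : B →+ FrobAlg.Twist p P →+ (E → B') :=
    { toFun := fun b =>
        { toFun := fun q e => (b ⊗ₜ[A] (1 : FrobAlg.Twist p A)) * χ (as.symm ((FrobAlg.toTwist p P).symm q) e)
          map_zero' := funext fun e => by simp
          map_add' := fun q q' => funext fun e => by simp [mul_add] }
      map_zero' := AddMonoidHom.ext fun q => funext fun e => by simp
      map_add' := fun b b' => AddMonoidHom.ext fun q => funext fun e => by simp [TensorProduct.add_tmul, add_mul] }
  let ω : FrobAlg.BaseChange p P B →+ (E → B') := TensorProduct.liftAddHom ω₂ fun t b q => funext fun e => by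
    change ((t • b) ⊗ₜ[A] (1 : FrobAlg.Twist p A)) * χ (as.symm ((FrobAlg.toTwist p P).symm q) e) =
      (b ⊗ₜ[A] (1 : FrobAlg.Twist p A)) * χ (as.symm (t ^ p * ((FrobAlg.toTwist p P).symm q)) e)
    rw [← map_frobenius_expand p (f := t), map_expand, hsmul, map_mul, hχF, ← mul_assoc,
      Algebra.TensorProduct.tmul_mul_tmul, mul_one, Algebra.smul_def, mul_comm (algebraMap P B t)]
    rfl
  let Λ : (E → B') →ₗ[B'] B :=
    { toFun := fun c => ∑ e, FrobAlg.relFrob p A B (c e) * g (mono p e)
      map_add' := fun c d => by simp [add_mul, Finset.sum_add_distrib]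
      map_smul' := fun z c => by
        simp only [RingHom.id_apply, Pi.smul_apply, smul_eq_mul, map_mul, Finset.mul_sum]
        rw [Algebra.smul_def, Finset.mul_sum]
        exact Finset.sum_congr rfl fun e _ => mul_assoc _ _ _ }
  have hΛω : ∀ z, Λ (ω z) = FrobAlg.relFrob p P B z := fun z => by
    induction z using TensorProduct.induction_on with
    | zero => simp
    | tmul b q =>
      obtain ⟨c, hc⟩ := as.surjective ((FrobAlg.toTwist p P).symm q)
      change ∑ e, FrobAlg.relFrob p A B ((b ⊗ₜ[A] (1 : FrobAlg.Twist p A)) * χ (as.symm ((FrobAlg.toTwist p P).symm q) e)) * g (mono p e) = _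
      rw [relFrob_tmul, ← hc, as.symm_apply_apply]
      change _ = b ^ p * g (∑ e, expand p (c e) * mono p e)
      rw [map_sum, Finset.mul_sum]
      refine Finset.sum_congr rfl fun e _ => ?_
      rw [map_mul, relFrob_tmul, map_one, map_one, mul_one, hrel, map_mul, mul_assoc]
    | add z w hz hw => rw [map_add, map_add, map_add, hz, hw]
  have hω : Function.Surjective ω := fun c => by
    have hsingle : ∀ (e : E) (z : B'), Pi.single e z ∈ ω.range := fun e z => by
      induction z using TensorProduct.induction_on with
      | zero => rw [Pi.single_zero]; exact zero_mem _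
      | tmul b a =>
        refine ⟨b ⊗ₜ FrobAlg.toTwist p P (expand p (C ((FrobAlg.toTwist p A).symm a)) * mono p e), funext fun e' => ?_⟩
        change (b ⊗ₜ[A] (1 : FrobAlg.Twist p A)) * χ (as.symm ((FrobAlg.toTwist p P).symm
          (FrobAlg.toTwist p P (expand p (C ((FrobAlg.toTwist p A).symm a)) * mono p e))) e') = _
        rw [RingEquiv.symm_apply_apply, show expand p (C ((FrobAlg.toTwist p A).symm a)) * mono p e =
          as (Pi.single e (C ((FrobAlg.toTwist p A).symm a))) from ?_, as.symm_apply_apply]
        · by_cases h : e' = e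
          · subst h
            rw [Pi.single_eq_same, Pi.single_eq_same,
              show χ (C ((FrobAlg.toTwist p A).symm a)) = (1 : B) ⊗ₜ[A] a from
                (MvPolynomial.eval₂Hom_C _ _ _).trans (by simp),
              Algebra.TensorProduct.tmul_mul_tmul, mul_one, one_mul]
          · rw [Pi.single_eq_of_ne h, Pi.single_eq_of_ne h, map_zero, mul_zero]
        · exact (assemble_single p e _).symm
      | add z w hz hw => rw [Pi.single_add]; exact add_mem hz hw
    rw [← AddMonoidHom.mem_range, ← Finset.univ_sum_single c]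
    exact sum_mem fun e _ => hsingle e (c e)
  have hbij := bijective_of_etale p P B
  have hΛ : Function.Bijective Λ := by
    refine ⟨fun c d h => ?_, fun b => ?_⟩
    · obtain ⟨z, rfl⟩ := hω c
      obtain ⟨w, rfl⟩ := hω d
      rw [hΛω, hΛω] at h
      rw [hbij.1 h]
    · obtain ⟨z, rfl⟩ := hbij.2 b
      exact ⟨ω z, hΛω z⟩
  refine ⟨Module.Basis.ofEquivFun (LinearEquiv.ofBijective Λ hΛ).symm, fun e => ?_⟩
  rw [Module.Basis.coe_ofEquivFun, LinearEquiv.symm_symm]
  change ∑ e', FrobAlg.relFrob p A B ((Pi.single e 1 : E → B') e') * g (mono p e') = g (mono p e)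
  rw [Finset.sum_eq_single e (fun e' _ he => by rw [Pi.single_eq_of_ne he, map_zero, zero_mul]) (by simp),
    Pi.single_eq_same, map_one, one_mul]

/-- The relative Frobenius of an algebra étale over a polynomial ring is free. -/
theorem nonempty_basis (g : MvPolynomial (Fin n) A →ₐ[A] B) (hg : g.toRingHom.Etale) :
    letI := (FrobAlg.relFrob p A B).toAlgebra
    Nonempty (Module.Basis (Fin n → Fin p) (FrobAlg.BaseChange p A B) B) :=
  let ⟨b, _⟩ := exists_basis_mono p g hg
  ⟨b⟩

end FrobEtaleLib
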