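import Groth.Agent.FrobEtaleLib.Poly
import Mathlib.RingTheory.Smooth.StandardSmoothOfFree
import Mathlib.RingTheory.RingHom.StandardSmooth
import Mathlib.RingTheory.Etale.Kaehler
import Mathlib.RingTheory.Kaehler.Polynomial
import Mathlib.RingTheory.Localization.BaseChange
import Mathlib.RingTheory.Flat.Localization
import Mathlib.RingTheory.Localization.Finiteness
import Mathlib.RingTheory.Spectrum.Prime.FreeLocus

/-!
# The relative Frobenius of a smooth algebra is finite locally free
-/

set_option autoImplicit false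
set_option linter.style.haveILetI false
universe u v

open scoped TensorProduct

namespace FrobEtaleLib

set_option maxHeartbeats 400000

variable (p : ℕ) [Fact p.Prime] (A : Type u) [CommRing A] [CharP A p]
  (B : Type v) [CommRing B] [Algebra A B] [CharP B p]

theorem rankAtStalk_kaehler {n : ℕ} (g : MvPolynomial (Fin n) A →ₐ[A] B) (hg : g.toRingHom.Etale) [Nontrivial B] :
    Module.Free B (Ω[B⁄A]) ∧ Module.finrank B (Ω[B⁄A]) = n := by
  letI := g.toRingHom.toAlgebra
  haveI : Algebra.Etale (MvPolynomial (Fin n) A) B := hg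
  haveI : IsScalarTower A (MvPolynomial (Fin n) A) B := IsScalarTower.of_algebraMap_eq fun a => (g.commutes a).symm
  let b := ((KaehlerDifferential.mvPolynomialBasis A (Fin n)).baseChange B).map
    (KaehlerDifferential.tensorKaehlerEquivOfFormallyEtale A (MvPolynomial (Fin n) A) B)
  exact ⟨Module.Free.of_basis b, by rw [Module.finrank_eq_card_basis b, Fintype.card_fin]⟩

omit [Fact p.Prime] [CharP A p] [CharP B p] in
theorem charP_of_algebra (C : Type*) [CommRing C] [Algebra A C] [Nontrivial C] [Fact p.Prime] [CharP A p] :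
    CharP C p :=
  (CharP.charP_iff_prime_eq_zero Fact.out).mpr (by rw [← map_natCast (algebraMap A C) p, CharP.cast_eq_zero, map_zero])

theorem isLocalization_map (A : Type*) [CommRing A] (B : Type*) [CommRing B] [Algebra A B]
    (T : Type*) [CommRing T] [Algebra A T] (C : Type*) [CommRing C] [Algebra B C] [Algebra A C]
    [IsScalarTower A B C] (f : B) [IsLocalization.Away f C] :
    letI := (Algebra.TensorProduct.map (IsScalarTower.toAlgHom A B C) (AlgHom.id A T)).toRingHom.toAlgebra
    IsLocalization.Away (f ⊗ₜ[A] (1 : T)) (C ⊗[A] T) := by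
  letI := (Algebra.TensorProduct.map (IsScalarTower.toAlgHom A B C) (AlgHom.id A T)).toRingHom.toAlgebra
  haveI : IsScalarTower B (B ⊗[A] T) (C ⊗[A] T) := by
    refine IsScalarTower.of_algebraMap_eq fun b => ?_
    change (algebraMap B C b) ⊗ₜ[A] (1 : T) =
      Algebra.TensorProduct.map (IsScalarTower.toAlgHom A B C) (AlgHom.id A T) (b ⊗ₜ 1)
    rw [Algebra.TensorProduct.map_tmul, map_one]
    rfl
  have hloc := IsLocalization.tensorProduct_tensorProduct A (A := B) T (Submonoid.powers f) C
    (RingHom.ext fun a => by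
      change Algebra.TensorProduct.map (IsScalarTower.toAlgHom A B C) (AlgHom.id A T) ((1 : B) ⊗ₜ a) = (1 : C) ⊗ₜ a
      rw [Algebra.TensorProduct.map_tmul, map_one]
      rfl)
  rwa [Algebra.algebraMapSubmonoid_powers] at hloc

/-- An opaque name for the Frobenius twist, hiding its module structures. -/
def LocBC (C : Type v) [CommRing C] [Algebra A C] : Type (max u v) := FrobAlg.BaseChange p A C

noncomputable instance (C : Type v) [CommRing C] [Algebra A C] : CommRing (LocBC p A C) :=
  inferInstanceAs (CommRing (FrobAlg.BaseChange p A C))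

/-- The local structure of the relative Frobenius. -/
theorem local_piece (f : B) (hf : Algebra.IsStandardSmooth A (Localization.Away f)) :
    letI := (FrobAlg.relFrob p A B).toAlgebra
    ∀ [Nontrivial (Localization.Away f)], ∃ (n : ℕ) (R' : Type (max u v)) (_ : CommRing R') (_ : Algebra (FrobAlg.BaseChange p A B) R')
      (_ : Module R' (Localization.Away f))
      (_ : IsScalarTower (FrobAlg.BaseChange p A B) R' (Localization.Away f))
      (l : B →ₗ[FrobAlg.BaseChange p A B] Localization.Away f),
      IsLocalization.Away (f ⊗ₜ[A] (1 : FrobAlg.Twist p A)) R' ∧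
      IsLocalizedModule.Away (f ⊗ₜ[A] (1 : FrobAlg.Twist p A)) l ∧
      Module.Free R' (Localization.Away f) ∧
      Module.Finite R' (Localization.Away f) ∧
      Module.finrank R' (Localization.Away f) = p ^ n ∧
      Module.Free (Localization.Away f) (Ω[Localization.Away f⁄A]) ∧
      Module.finrank (Localization.Away f) (Ω[Localization.Away f⁄A]) = n := by
  letI := (FrobAlg.relFrob p A B).toAlgebra
  intro hnt
  obtain ⟨n, g, hgC, hg⟩ := RingHom.IsStandardSmooth.exists_etale_mvPolynomial
    (RingHom.isStandardSmooth_algebraMap.mpr hf)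
  let ga : MvPolynomial (Fin n) A →ₐ[A] Localization.Away f :=
    { g with commutes' := fun a => RingHom.congr_fun hgC a }
  let C := Localization.Away f
  haveI : CharP C p := charP_of_algebra p A C
  let R := FrobAlg.BaseChange p A B
  let R' := LocBC p A C
  letI algRR : Algebra R R' :=
    (Algebra.TensorProduct.map (IsScalarTower.toAlgHom A B C) (AlgHom.id A (FrobAlg.Twist p A))).toRingHom.toAlgebra
  letI algRC : Algebra R' C := (FrobAlg.relFrob p A C).toAlgebra
  haveI : IsScalarTower R R' C := by
    refine IsScalarTower.of_algebraMap_eq fun z => ?_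
    rw [IsScalarTower.algebraMap_apply R B C]
    change algebraMap B C (FrobAlg.relFrob p A B z) = FrobAlg.relFrob p A C (Algebra.TensorProduct.map (IsScalarTower.toAlgHom A B C) (AlgHom.id A (FrobAlg.Twist p A)) z)
    induction z using TensorProduct.induction_on with
    | zero => simp
    | tmul b a =>
      rw [Algebra.TensorProduct.map_tmul, relFrob_tmul, relFrob_tmul, map_mul, map_pow,
        ← IsScalarTower.algebraMap_apply A B C]
      rfl
    | add z w hz hw => rw [map_add, map_add, map_add, map_add, hz, hw]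
  have hR' : IsLocalization.Away (f ⊗ₜ[A] (1 : FrobAlg.Twist p A)) R' :=
    isLocalization_map A B (FrobAlg.Twist p A) C f
  have hl : IsLocalizedModule.Away (f ⊗ₜ[A] (1 : FrobAlg.Twist p A)) (IsScalarTower.toAlgHom R B C).toLinearMap := by
    refine isLocalizedModule_iff_isLocalization.mpr ?_
    rw [Algebra.algebraMapSubmonoid_powers]
    have hpow : algebraMap R B (f ⊗ₜ[A] (1 : FrobAlg.Twist p A)) = f ^ p :=
      (relFrob_tmul p A B f 1).trans (by rw [map_one, map_one, mul_one])
    rw [hpow]
    exact IsLocalization.iff_of_le_of_exists_dvd (Submonoid.powers (f ^ p)) (Submonoid.powers f)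
      (Submonoid.powers_le.mpr ⟨p, rfl⟩)
      (fun x ⟨m, hm⟩ => ⟨(f ^ p) ^ m, ⟨m, rfl⟩, hm ▸ pow_dvd_pow_of_dvd (dvd_pow_self f (Fact.out : p.Prime).pos.ne') m⟩)
      |>.mpr inferInstance
  obtain ⟨b⟩ : Nonempty (Module.Basis (Fin n → Fin p) R' C) := nonempty_basis p ga hg
  haveI : Nontrivial R' := (FrobAlg.relFrob p A C).domain_nontrivial
  obtain ⟨hfree, hrank⟩ := rankAtStalk_kaehler A C ga hg
  exact ⟨n, R', inferInstance, algRR, inferInstance, inferInstance, (IsScalarTower.toAlgHom R B C).toLinearMap,
    hR', hl, Module.Free.of_basis b, Module.Finite.of_basis b,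
    by rw [Module.finrank_eq_card_basis b, Fintype.card_fun, Fintype.card_fin, Fintype.card_fin], hfree, hrank⟩

theorem fp_of_comp {R S T : Type*} [CommRing R] [CommRing S] [CommRing T] (f : R →+* S) (g : S →+* T)
    (hf : f.FiniteType) (hgf : (g.comp f).FinitePresentation) : g.FinitePresentation := by
  algebraize [f, g, g.comp f]
  exact Algebra.FinitePresentation.of_restrict_scalars_finitePresentation R S T

theorem exists_cover [Algebra.Smooth A B] : ∃ s : Set B,
    Ideal.span ((fun f => f ⊗ₜ[A] (1 : FrobAlg.Twist p A)) '' s) = ⊤ ∧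
      ∀ f ∈ s, Algebra.IsStandardSmooth A (Localization.Away f) ∧ Nontrivial (Localization.Away f) := by
  obtain ⟨s, hs, hstd⟩ := Algebra.Smooth.exists_span_eq_top_isStandardSmooth A B
  refine ⟨{f ∈ s | ¬ IsNilpotent f}, ?_, fun f hf => ⟨hstd f hf.1, ?_⟩⟩
  · let i : B →+* FrobAlg.BaseChange p A B := Algebra.TensorProduct.includeLeftRingHom
    change Ideal.span (i '' _) = ⊤
    rw [← Ideal.map_span]
    suffices h : Ideal.span {f ∈ s | ¬ IsNilpotent f} = ⊤ by rw [h, Ideal.map_top]
    rw [Ideal.eq_top_iff_one]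
    by_contra h1
    obtain ⟨m, hm, hle⟩ := Ideal.exists_le_maximal (Ideal.span {f ∈ s | ¬ IsNilpotent f})
      (fun h => h1 (h.symm ▸ Submodule.mem_top))
    refine hm.ne_top (eq_top_iff.mpr (hs.ge.trans (Ideal.span_le.mpr fun f hf => ?_)))
    by_cases hn : IsNilpotent f
    · obtain ⟨k, hk⟩ := hn
      exact hm.isPrime.mem_of_pow_mem k (hk ▸ m.zero_mem)
    · exact hle (Ideal.subset_span ⟨hf, hn⟩)
  · refine not_subsingleton_iff_nontrivial.mp fun h => hf.2 ?_
    have h0 := (IsLocalization.subsingleton_iff (M := Submonoid.powers f) (S := Localization.Away f)).mp h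
    obtain ⟨k, hk⟩ := h0
    exact ⟨k, hk⟩

theorem flat_finite_projective [Algebra.Smooth A B] :
    letI := (FrobAlg.relFrob p A B).toAlgebra
    Module.Flat (FrobAlg.BaseChange p A B) B ∧ Module.Finite (FrobAlg.BaseChange p A B) B ∧
      Module.Projective (FrobAlg.BaseChange p A B) B := by
  letI := (FrobAlg.relFrob p A B).toAlgebra
  let R := FrobAlg.BaseChange p A B
  obtain ⟨s, hs, hstd⟩ := exists_cover p A B
  let t : Set R := (fun f => f ⊗ₜ[A] (1 : FrobAlg.Twist p A)) '' s
  choose f hfs hfr using fun g : t => g.2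
  choose n R' iC iA iM iT l hR hl hF hFin hrk hO hOn using fun g : t =>
    @local_piece p _ A _ _ B _ _ _ (f g) (hstd _ (hfs g)).1 (hstd _ (hfs g)).2
  letI := iC; letI := iA; letI := iM
  haveI := iT
  haveI : ∀ g : t, IsLocalization.Away g.1 (R' g) := fun g => by
    have := hR g
    rw [← hfr g]; exact this
  haveI : ∀ g : t, IsLocalizedModule.Away g.1 (l g) := fun g => by
    have := hl g
    rw [← hfr g]; exact this
  haveI hflat : Module.Flat R B := Module.flat_of_isLocalized_span (R := R) R B t hs (fun g => Localization.Away (f g)) l fun g => by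
    haveI := hF g
    haveI : Module.Flat R (R' g) :=
      IsLocalization.flat _ (Submonoid.powers g.1)
    exact Module.Flat.trans R (R' g) _
  haveI hfin : Module.Finite R B :=
    Module.Finite.of_localizationSpan' (Rₚ := R')
      t hs l hFin
  have hft : (algebraMap (FrobAlg.Twist p A) R).FiniteType :=
    RingHom.finiteType_algebraMap.mpr (Algebra.FiniteType.equiv inferInstance
      (Algebra.TensorProduct.commRight A (FrobAlg.Twist p A) B))
  have hfp : (FrobAlg.relFrob p A B).FinitePresentation := by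
    refine fp_of_comp _ _ hft ?_
    have he : (FrobAlg.relFrob p A B).comp (algebraMap (FrobAlg.Twist p A) R) =
        (algebraMap A B).comp ((FrobAlg.toTwist p A).symm : FrobAlg.Twist p A →+* A) := RingHom.ext fun a => by
      change FrobAlg.relFrob p A B ((1 : B) ⊗ₜ a) = _
      rw [relFrob_tmul, one_pow, one_mul]
      rfl
    rw [he]
    exact RingHom.FinitePresentation.comp (RingHom.finitePresentation_algebraMap.mpr inferInstance)
      (RingHom.FinitePresentation.of_bijective (FrobAlg.toTwist p A).symm.bijective)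
  haveI : Module.FinitePresentation R B :=
    haveI : Algebra.FinitePresentation R B := hfp
    Module.FinitePresentation.of_finite_of_finitePresentation R B
  exact ⟨hflat, hfin, Module.Flat.projective_of_finitePresentation⟩

theorem rankAtStalk_eq [Algebra.Smooth A B] (r : ℕ)
    (hr : ∀ q : PrimeSpectrum B, Module.rankAtStalk (R := B) (Ω[B⁄A]) q = r) :
    letI := (FrobAlg.relFrob p A B).toAlgebra
    ∀ q : PrimeSpectrum (FrobAlg.BaseChange p A B),
      Module.rankAtStalk (R := FrobAlg.BaseChange p A B) B q = p ^ r := by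
  letI := (FrobAlg.relFrob p A B).toAlgebra
  intro q
  let R := FrobAlg.BaseChange p A B
  haveI := (flat_finite_projective p A B).1
  haveI := (flat_finite_projective p A B).2.1
  obtain ⟨s, hs, hstd⟩ := exists_cover p A B
  obtain ⟨_, ⟨f, hfs, rfl⟩, hfq⟩ := Set.not_subset.mp fun h : (fun f => f ⊗ₜ[A] (1 : FrobAlg.Twist p A)) '' s ⊆ q.asIdeal =>
    q.2.ne_top (eq_top_iff.mpr (hs.ge.trans (Ideal.span_le.mpr h)))
  haveI := (hstd f hfs).2
  obtain ⟨n, R', iC, iA, iM, iT, l, hR, hl, hF, hFin, hrk, hΩ, hΩn⟩ := local_piece p A B f (hstd f hfs).1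
  let C := Localization.Away f
  haveI := hR; haveI := hl; haveI := hF; haveI := hFin; haveI := hΩ
  have hn : n = r := by
    obtain ⟨P⟩ := (inferInstance : Nonempty (PrimeSpectrum C))
    haveI : Module.Finite B (Ω[B⁄A]) := inferInstance
    haveI : Module.Flat B (Ω[B⁄A]) := inferInstance
    have h1 := Module.rankAtStalk_baseChange (R := B) (M := Ω[B⁄A]) P
    rw [hr, Module.rankAtStalk_eq_of_equiv (KaehlerDifferential.tensorKaehlerEquivOfFormallyEtale A B C),
      Module.rankAtStalk_eq_finrank_of_free] at h1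
    exact hΩn.symm.trans h1
  let q' : PrimeSpectrum R' := ⟨q.asIdeal.map (algebraMap R R'),
    IsLocalization.isPrime_of_isPrime_disjoint (Submonoid.powers (f ⊗ₜ[A] (1 : FrobAlg.Twist p A))) R' _ q.2
      (Set.disjoint_left.mpr fun z ⟨m, hm⟩ hz => hfq (q.2.mem_of_pow_mem m (show (f ⊗ₜ[A] (1 : FrobAlg.Twist p A) : R) ^ m ∈ q.asIdeal by rw [show (f ⊗ₜ[A] (1 : FrobAlg.Twist p A) : R) ^ m = z from hm]; exact hz)))⟩
  have hq : q'.comap (algebraMap R R') = q := PrimeSpectrum.ext
    (IsLocalization.comap_map_of_isPrime_disjoint (Submonoid.powers (f ⊗ₜ[A] (1 : FrobAlg.Twist p A))) R' q.2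
      (Set.disjoint_left.mpr fun z ⟨m, hm⟩ hz => hfq (q.2.mem_of_pow_mem m (show (f ⊗ₜ[A] (1 : FrobAlg.Twist p A) : R) ^ m ∈ q.asIdeal by rw [show (f ⊗ₜ[A] (1 : FrobAlg.Twist p A) : R) ^ m = z from hm]; exact hz))))
  have h2 := Module.rankAtStalk_baseChange (R := R) (M := B) q'
  rw [hq, Module.rankAtStalk_eq_of_equiv
    (IsLocalizedModule.isBaseChange (R := R) (Submonoid.powers (f ⊗ₜ[A] (1 : FrobAlg.Twist p A) : R)) R' l).equiv,
    Module.rankAtStalk_eq_finrank_of_free] at h2
  rw [← h2, ← hn]
  exact hrk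

end FrobEtaleLib
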