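import Groth.Agent.FrobEtaleLib.Poly
import Groth.Prelude.Def_W4c2gaugesfzipsQuiet
import Mathlib.RingTheory.Smooth.StandardSmoothOfFree
import Mathlib.RingTheory.RingHom.StandardSmooth

/-!
# The Frobenius of a smooth algebra over a perfect field is a tower of root extractions
-/

set_option autoImplicit false
set_option linter.style.haveILetI false
universe u

open scoped TensorProduct
open Polynomial

namespace FrobEtaleLib

set_option maxHeartbeats 400000

variable (p : ℕ) [Fact p.Prime]

/-- Reduced monomials in given elements form a basis. -/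
def IsMonoBasis {n : ℕ} (A B : Type u) [CommRing A] [CommRing B] [Algebra A B] (s : Fin n → B) : Prop :=
  Function.Bijective fun c : (Fin n → Fin p) → A => ∑ e, c e • ∏ i, s i ^ (e i : ℕ)

theorem isRootTower_of_isMonoBasis :
    ∀ (n : ℕ) (A B : Type u) [CommRing A] [CommRing B] [Algebra A B] (s : Fin n → B),
      (∀ i, ∃ a, s i ^ p = algebraMap A B a) → IsMonoBasis p A B s → Quiet.IsRootTower p n A B
  | 0, A, B, _, _, _, s, _, h => by
    have hb : Function.Bijective (algebraMap A B) := by
      have he : (algebraMap A B : A → B) =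
          (fun c : (Fin 0 → Fin p) → A => ∑ e, c e • ∏ i, s i ^ (e i : ℕ)) ∘ fun a _ => a := funext fun a => by
        simp [Algebra.algebraMap_eq_smul_one]
      rw [he]
      exact h.comp ⟨fun a b hab => congrFun hab default, fun c => ⟨c default, funext fun e => by rw [Subsingleton.elim e default]⟩⟩
    exact ⟨(AlgEquiv.ofBijective (Algebra.ofId A B) hb).symm⟩
  | n + 1, A, B, _, _, _, s, hs, h => by
    obtain ⟨a, ha⟩ := hs 0
    refine ⟨a, (AdjoinRoot.lift (algebraMap A B) (s 0) (by simp [ha])).toAlgebra, ?_⟩
    letI algA₁ : Algebra (Quiet.RootRing p A a) B := (AdjoinRoot.lift (algebraMap A B) (s 0) (by simp [ha])).toAlgebra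
    have htower : IsScalarTower A (Quiet.RootRing p A a) B :=
      IsScalarTower.of_algebraMap_eq fun x => (AdjoinRoot.lift_of _).symm
    refine ⟨htower, isRootTower_of_isMonoBasis n (Quiet.RootRing p A a) B (Fin.tail s) (fun i => ?_) ?_⟩
    · obtain ⟨c, hc⟩ := hs i.succ
      exact ⟨algebraMap A _ c, by rw [← IsScalarTower.algebraMap_apply]; exact hc⟩
    rcases subsingleton_or_nontrivial A with hA | hA
    · haveI : Subsingleton B := Module.subsingleton A B
      haveI : Subsingleton (Quiet.RootRing p A a) := Module.subsingleton A _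
      exact ⟨fun c d _ => Subsingleton.elim _ _, fun b => ⟨0, Subsingleton.elim _ _⟩⟩
    have hm : (X ^ p - C a : A[X]).Monic := monic_X_pow_sub_C a (Fact.out : p.Prime).pos.ne'
    let pb := AdjoinRoot.powerBasis' hm
    have hdim : pb.dim = p := natDegree_X_pow_sub_C
    let bA := pb.basis.reindex (finCongr hdim)
    have hbA : ∀ j, bA j = AdjoinRoot.root (X ^ p - C a) ^ (j : ℕ) := fun j => by
      simp [bA, pb.basis_eq_pow]
      rfl
    let Φ := fun c : (Fin (n + 1) → Fin p) → A => ∑ e, c e • ∏ i, s i ^ (e i : ℕ)
    let re : ((Fin n → Fin p) → Quiet.RootRing p A a) ≃ ((Fin (n + 1) → Fin p) → A) :=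
      { toFun := fun c e => bA.repr (c (Fin.tail e)) (e 0)
        invFun := fun d e' => bA.equivFun.symm fun j => d (Fin.cons j e')
        left_inv := fun c => funext fun e' => by
          simp only [Fin.tail_cons, Fin.cons_zero]
          exact bA.equivFun.symm_apply_apply (c e')
        right_inv := fun d => funext fun e => by
          conv_rhs => rw [← Fin.cons_self_tail e]
          exact congrFun (bA.equivFun.apply_symm_apply fun j => d (Fin.cons j (Fin.tail e))) (e 0) }
    have hΦ : (fun c : (Fin n → Fin p) → Quiet.RootRing p A a => ∑ e, c e • ∏ i, Fin.tail s i ^ (e i : ℕ)) =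
        Φ ∘ re := funext fun c => by
      change ∑ e, c e • _ = ∑ e : Fin (n + 1) → Fin p, bA.repr (c (Fin.tail e)) (e 0) • _
      rw [← (Fin.consEquiv fun _ : Fin (n + 1) => Fin p).sum_comp, Fintype.sum_prod_type, Finset.sum_comm]
      refine Finset.sum_congr rfl fun e' _ => ?_
      conv_lhs => rw [← bA.sum_repr (c e'), Finset.sum_smul]
      refine Finset.sum_congr rfl fun j _ => ?_
      simp only [Fin.consEquiv_apply, Fin.tail_cons, Fin.cons_zero]
      rw [smul_assoc, Fin.prod_univ_succ, Fin.cons_zero, hbA, Algebra.smul_def (_ ^ (j : ℕ) : Quiet.RootRing p A a),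
        map_pow]
      rw [show Fin.tail ((Fin.consEquiv fun _ : Fin (n + 1) => Fin p) (j, e')) = e' from Fin.tail_cons _ _]
      simp [Fin.tail, RingHom.algebraMap_toAlgebra]
    unfold IsMonoBasis
    rw [hΦ]
    exact h.comp re.bijective

variable (k : Type u) [Field k] [CharP k p] [PerfectRing k p]
  (A : Type u) [CommRing A] [Algebra k A] [CharP A p]

theorem bijective_includeLeft :
    Function.Bijective (Algebra.TensorProduct.includeLeftRingHom : A →+* FrobAlg.BaseChange p k A) := by
  let r : k →+* k := ((frobeniusEquiv k p).symm : k →+* k)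
  let back : FrobAlg.BaseChange p k A →+ A := TensorProduct.liftAddHom
    (AddMonoidHom.mk' (fun t => AddMonoidHom.mk' (fun a => r ((FrobAlg.toTwist p k).symm a) • t)
      (fun a b => by simp [add_smul])) fun t t' => AddMonoidHom.ext fun a => smul_add _ _ _)
    fun c t a => by
      change r ((FrobAlg.toTwist p k).symm a) • c • t = r (c ^ p * (FrobAlg.toTwist p k).symm a) • t
      rw [smul_smul, map_mul, show r (c ^ p) = c from (frobeniusEquiv k p).symm_apply_apply c, mul_comm]
  refine ⟨Function.LeftInverse.injective (g := back) fun t => ?_,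
    Function.RightInverse.surjective (g := back) fun z => ?_⟩
  · change r ((FrobAlg.toTwist p k).symm 1) • t = t
    rw [map_one, map_one, one_smul]
  · induction z using TensorProduct.induction_on with
    | zero => simp
    | tmul t a =>
      change (r ((FrobAlg.toTwist p k).symm a) • t) ⊗ₜ[k] (1 : FrobAlg.Twist p k) = t ⊗ₜ[k] a
      rw [TensorProduct.smul_tmul, ← Algebra.algebraMap_eq_smul_one, FrobAlg.algebraMap_twist,
        show r ((FrobAlg.toTwist p k).symm a) ^ p = (FrobAlg.toTwist p k).symm a from
          (frobeniusEquiv k p).apply_symm_apply _, RingEquiv.apply_symm_apply]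
    | add z w hz hw => rw [map_add, map_add, hz, hw]

theorem frobenius_eq_comp :
    frobenius A p = (FrobAlg.relFrob p k A).comp Algebra.TensorProduct.includeLeftRingHom :=
  RingHom.ext fun t => ((relFrob_tmul p k A t 1).trans (by rw [map_one, map_one, mul_one]; rfl)).symm

theorem exists_isMonoBasis [Algebra.IsStandardSmooth k A] :
    letI := (frobenius A p).toAlgebra
    ∃ (n : ℕ) (s : Fin n → A), IsMonoBasis p A A s := by
  classical
  obtain ⟨n, g, hgC, hg⟩ := RingHom.IsStandardSmooth.exists_etale_mvPolynomial
    (RingHom.isStandardSmooth_algebraMap.mpr ‹Algebra.IsStandardSmooth k A›)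
  let ga : MvPolynomial (Fin n) k →ₐ[k] A := { g with commutes' := fun a => RingHom.congr_fun hgC a }
  letI algT : Algebra (FrobAlg.BaseChange p k A) A := (FrobAlg.relFrob p k A).toAlgebra
  obtain ⟨b, hb⟩ := exists_basis_mono p ga hg
  refine ⟨n, fun i => ga (MvPolynomial.X i), ?_⟩
  have hmono : ∀ e : Fin n → Fin p, ga (mono p e) = ∏ i, ga (MvPolynomial.X i) ^ (e i : ℕ) := fun e => by
    rw [mono, MvPolynomial.monomial_eq, MvPolynomial.C_1, one_mul, Finsupp.prod_fintype _ _ (fun i => pow_zero _), map_prod]
    simp
  let e₀ := RingEquiv.ofBijective _ (bijective_includeLeft p k A)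
  have hΦ : (fun c : (Fin n → Fin p) → A =>
        ∑ e, (frobenius A p (c e)) * ∏ i, ga (MvPolynomial.X i) ^ (e i : ℕ)) =
      b.equivFun.symm ∘ fun c e => e₀ (c e) := funext fun c => by
    rw [Function.comp_apply, b.equivFun_symm_apply]
    refine Finset.sum_congr rfl fun e _ => ?_
    rw [hb, hmono, frobenius_eq_comp p k A]
    rfl
  change Function.Bijective fun c : (Fin n → Fin p) → A =>
    ∑ e, (frobenius A p (c e)) * ∏ i, ga (MvPolynomial.X i) ^ (e i : ℕ)
  rw [hΦ]
  exact b.equivFun.symm.bijective.comp (Equiv.piCongrRight fun _ => e₀.toEquiv).bijective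

end FrobEtaleLib
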